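import Cfsg.Agent.BS.Final
import Cfsg.Prelude.Def_LocalEven

/-! Goldschmidt's theorem on strongly closed abelian 2-subgroups: the independent parts. -/

set_option autoImplicit false

namespace CfH2.GS

open Cfsg CfH9 CfH7 CfH8 CfH1 CfFT CfH5.BS Subgroup

universe u

/-- `L ≅ L₂(q)` with `q ≥ 5` and `q ≡ 3, 5 (mod 8)` -/
def IsL2 (L : Type u) [Group L] : Prop :=
  ∃ (F : Type) (_ : Field F) (_ : Fintype F), 5 ≤ Fintype.card F ∧
    (Fintype.card F % 8 = 3 ∨ Fintype.card F % 8 = 5) ∧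
    Nonempty (L ≃* Matrix.ProjectiveSpecialLinearGroup (Fin 2) F)

/-- Janko-Ree type, odd field automorphisms allowed: `F*(C(t)) = ⟨t⟩ × K`, `K ≅ L₂(q)`, and
`C(t) / ⟨t⟩ K` and the index of `C(t)` are odd -/
structure JR {G : Type u} [Group G] (t : G) (K : Subgroup G) : Prop where
  inv : Inv t
  odd : Odd Cx(t).index
  le : K ≤ Cx(t)
  norm : Cx(t) ≤ Nm(K)
  iso : IsL2 K
  cent : Cx(t) ⊓ Cz(K) = zpowers t
  idx : Odd ((zpowers t ⊔ K).relIndex Cx(t))

/-- Gorenstein-Walter, Sylow 2-subgroup of order four -/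
def GW4 : Prop :=
  ∀ (G : Type u) [Group G] [Finite G] [IsSimpleGroup G] (S : Subgroup G), SylIn 2 S ⊤ →
    Nat.card S = 4 → IsL2 G

/-- Brauer: an abelian Sylow 2-subgroup of rank two has order four -/
def Homocyc : Prop :=
  ∀ (G : Type u) [Group G] [Finite G] [IsSimpleGroup G] (S : Subgroup G), SylIn 2 S ⊤ → Ab S →
    Nat.card (Om 2 S) = 4 → Nat.card S = 4

/-- Lyons: exactly three involutions in a nonabelian Sylow 2-subgroup, all central -/
def Lyons : Prop :=
  ∀ (G : Type u) [Group G] [Finite G] [IsSimpleGroup G] (S : Subgroup G), SylIn 2 S ⊤ → ¬ Ab S →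
    Nat.card (Om 2 S) = 4 → Om 2 S ≤ Cz(S) → ∃ X : Subgroup G, SPE 2 X ⊤

/-- Janko-Thompson (with Walter's removal of the field automorphisms) -/
def JT : Prop :=
  ∀ (G : Type u) [Group G] [Finite G] [IsSimpleGroup G] (t : G) (K : Subgroup G), JR t K →
    IsReeType G ∨ Spor.IsoJ1 G

end CfH2.GS
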